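import Groth.Agent.FundLocal.Main
import Groth.Agent.ExtFilt28.Maps
import Groth.Agent.Coherent.CohBC.Global
import Groth.Prelude.Def_W4c2seshadriposJets

/-!
# Jets of a tensor product
-/

set_option autoImplicit false
set_option linter.style.haveILetI false
set_option backward.isDefEq.respectTransparency.types false
set_option maxHeartbeats 800000

universe u

open CategoryTheory CategoryTheory.Limits AlgebraicGeometry Opposite TopologicalSpace TensorProduct
open Groth.Agent.Coherent Groth.Agent.PicLib Groth.Agent.AmpleLib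

namespace Groth.Agent.Jets24

theorem mem_sup_of_bilinear {R M N T : Type*} [CommRing R] [AddCommGroup M] [Module R M] [AddCommGroup N]
    [Module R N] [AddCommGroup T] [Module R T] (I : Ideal R) (φ : M →ₗ[R] N →ₗ[R] T)
    (hφ : Submodule.span R {t | ∃ m n, φ m n = t} = ⊤) {A : Set M} {B : Set N} (S : AddSubgroup T)
    (hS : ∀ a ∈ A, ∀ b ∈ B, φ a b ∈ S) {i j : ℕ}
    (hA : ∀ m, ∃ a ∈ A, m - a ∈ I ^ (i + 1) • (⊤ : Submodule R M))
    (hB : ∀ n, ∃ b ∈ B, n - b ∈ I ^ (j + 1) • (⊤ : Submodule R N)) (x : T) :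
    x ∈ S ⊔ (I ^ (i + j + 1) • (⊤ : Submodule R T)).toAddSubgroup := by
  let S' := S ⊔ (I ^ (i + j + 1) • (⊤ : Submodule R T)).toAddSubgroup
  have hmap : ∀ (p q : ℕ) (m : M) (n : N), m ∈ I ^ p • (⊤ : Submodule R M) → n ∈ I ^ q • (⊤ : Submodule R N) →
      φ m n ∈ I ^ (p + q) • (⊤ : Submodule R T) := by
    intro p q m n hm hn
    induction hm using Submodule.smul_induction_on' with
    | smul r hr m' _ =>
      induction hn using Submodule.smul_induction_on' with
      | smul s hs n' _ =>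
        rw [map_smul φ, LinearMap.smul_apply, map_smul (φ m'), smul_smul, pow_add]
        exact Submodule.smul_mem_smul (Ideal.mul_mem_mul hr hs) trivial
      | add a _ b _ ha hb => rw [map_add]; exact add_mem ha hb
    | add a _ b _ ha hb => rw [map_add, LinearMap.add_apply]; exact add_mem ha hb
  suffices key : ∀ d t, i + j + 1 ≤ t + d → ∀ y ∈ I ^ t • (⊤ : Submodule R T), y ∈ S' by
    refine key (i + j + 1) 0 (by omega) x ?_
    rw [pow_zero, Ideal.one_eq_top, Submodule.top_smul]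
    trivial
  intro d
  induction d with
  | zero =>
    intro t ht y hy
    exact AddSubgroup.mem_sup_right (Submodule.smul_mono_left (Ideal.pow_le_pow_right (by omega)) hy)
  | succ d ih =>
    intro t ht y hy
    rcases le_or_gt (i + j + 1) t with h | h
    · exact AddSubgroup.mem_sup_right (Submodule.smul_mono_left (Ideal.pow_le_pow_right h) hy)
    let p := min t i
    let q := t - p
    have hpq : t = p + q := by omega
    have hgen : ∀ z : T, ∀ r ∈ I ^ t, r • z ∈ S' := by
      intro z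
      have hz : z ∈ Submodule.span R {t | ∃ m n, φ m n = t} := hφ ▸ trivial
      induction hz using Submodule.span_induction with
      | mem z hz =>
        obtain ⟨m, n, rfl⟩ := hz
        intro r hr
        rw [hpq, pow_add] at hr
        refine Submodule.mul_induction_on hr (fun r₁ hr₁ r₂ hr₂ => ?_) fun a b ha hb => by
          rw [add_smul]; exact add_mem ha hb
        obtain ⟨a, ha, hma⟩ := hA (r₁ • m)
        obtain ⟨b, hb, hnb⟩ := hB (r₂ • n)
        have hm₁ : r₁ • m ∈ I ^ p • (⊤ : Submodule R M) := Submodule.smul_mem_smul hr₁ trivial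
        have hn₁ : r₂ • n ∈ I ^ q • (⊤ : Submodule R N) := Submodule.smul_mem_smul hr₂ trivial
        have ha₁ : a ∈ I ^ p • (⊤ : Submodule R M) := by
          have := sub_mem hm₁ (Submodule.smul_mono_left (Ideal.pow_le_pow_right (show p ≤ i + 1 by omega)) hma)
          rwa [sub_sub_cancel] at this
        have he : (r₁ * r₂) • φ m n = φ a b + φ a (r₂ • n - b) + φ (r₁ • m - a) (r₂ • n) := by
          rw [map_sub (φ a), map_sub φ, LinearMap.sub_apply, map_smul φ, LinearMap.smul_apply, map_smul (φ m),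
            smul_smul]
          abel
        rw [he]
        refine add_mem (add_mem (AddSubgroup.mem_sup_left (hS a ha b hb)) ?_) ?_
        · exact ih (p + (j + 1)) (by omega) _ (hmap _ _ _ _ ha₁ hnb)
        · exact ih (i + 1 + q) (by omega) _ (hmap _ _ _ _ hma hn₁)
      | zero => intro r _; rw [smul_zero]; exact zero_mem _
      | add a b _ _ ha hb => intro r hr; rw [smul_add]; exact add_mem (ha r hr) (hb r hr)
      | smul c a _ ha => intro r hr; rw [smul_smul]; exact ha _ (Ideal.mul_mem_right c _ hr)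
    induction hy using Submodule.smul_induction_on' with
    | smul r hr z _ => exact hgen z r hr
    | add a _ b _ ha hb => exact add_mem ha hb

variable {X : Scheme.{u}}

theorem separatesJets_iff (F : X.Modules) [Coh.IsQCoh F] (x : X) (hx : IsClosed ({x} : Set X)) (l : ℕ)
    (U : X.affineOpens) (hxU : x ∈ U.1) :
    W4c2seshadripos.SeparatesJets F x hx l ↔ ∀ m : Γ(F, U.1), ∃ σ : Γ(F, ⊤),
      m - resM F le_top σ ∈ ((W4c2seshadripos.pointIdeal x hx).ideal U) ^ (l + 1) •
        (⊤ : Submodule Γ(X, U.1) Γ(F, U.1)) := by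
  let I := (W4c2seshadripos.pointIdeal x hx) ^ (l + 1)
  let ι := I.subschemeι
  let η := (Scheme.Modules.pullbackPushforwardAdjunction ι).unit.app F
  have hidl : FundLocal.idl ι U.1 = (W4c2seshadripos.pointIdeal x hx).ideal U ^ (l + 1) := by
    rw [show FundLocal.idl ι U.1 = I.ideal U from I.ker_subschemeι_app U]
    exact congrFun ((W4c2seshadripos.pointIdeal x hx).ideal_pow (l + 1)) U
  have htop : ι ⁻¹ᵁ (⊤ : X.Opens) ≤ ι ⁻¹ᵁ U.1 := fun z _ => by
    have hz : ι z ∈ Set.range ι := ⟨z, rfl⟩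
    rw [Scheme.IdealSheafData.range_subschemeι, Scheme.IdealSheafData.support_pow _ _ (Nat.succ_ne_zero l),
      W4c2seshadripos.pointIdeal, Scheme.IdealSheafData.coe_support_vanishingIdeal] at hz
    show ι z ∈ U.1
    have : ι z = x := hz
    rw [this]
    exact hxU
  have heqT : ι ⁻¹ᵁ (⊤ : X.Opens) = ι ⁻¹ᵁ U.1 := le_antisymm htop (ι.preimage_mono le_top)
  have hres : ∀ {V W : I.subscheme.Opens} (h : V = W),
      Function.Bijective (resM ((Scheme.Modules.pullback ι).obj F) h.ge) := by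
    rintro V _ rfl
    exact ⟨fun a b hab => by rwa [resM_self, resM_self] at hab, fun a => ⟨a, resM_self _ _ _⟩⟩
  have hsurj : W4c2seshadripos.SeparatesJets F x hx l ↔ Function.Surjective (fun σ : Γ(F, ⊤) => pullSec ι σ) := by
    let e1 := Sheaf.H.equiv₀ (Coh.toAb F) (CohBC.isTerminalTop X).some
    let e2 := Sheaf.H.equiv₀ (Coh.toAb ((Scheme.Modules.pushforward ι).obj ((Scheme.Modules.pullback ι).obj F)))
      (CohBC.isTerminalTop X).some
    have hnat : ∀ z, e2 (W4c2seshadripos.resH I F z) = pullSec ι (show Γ(F, ⊤) from e1 z) := fun z =>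
      (Sheaf.H.equiv₀_naturality (CohBC.isTerminalTop X).some _ z).symm
    refine ⟨fun h σ' => ?_, fun h z' => ?_⟩
    · obtain ⟨z, hz⟩ := h (e2.symm σ')
      exact ⟨e1 z, ((hnat z).symm.trans (congrArg e2 hz)).trans (e2.apply_symm_apply σ')⟩
    · obtain ⟨σ, hσ⟩ := h (e2 z')
      refine ⟨e1.symm σ, e2.injective ((hnat _).trans ?_)⟩
      rw [AddEquiv.apply_symm_apply]
      exact hσ
  rw [hsurj]
  obtain ⟨hs, hk⟩ := FundLocal.pullSec_affine ι (F := F) U.2
  have hr : ∀ σ : Γ(F, ⊤), resM _ heqT.ge (pullSec ι σ) = pullSec ι (resM F le_top σ) := fun σ =>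
    resM_pullSec ι le_top σ
  have hsub : ∀ a b : Γ(F, U.1), pullSec ι (a - b) = pullSec ι a - pullSec ι b := fun a b =>
    map_sub (η.app U.1).hom a b
  refine ⟨fun h m => ?_, fun h y => ?_⟩
  · obtain ⟨y, hy⟩ := (hres heqT).2 (pullSec ι m)
    obtain ⟨σ, rfl⟩ := h y
    refine ⟨σ, hidl ▸ hk _ ?_⟩
    rw [hsub, ← hr, hy, sub_self]
  · obtain ⟨m, hm⟩ := hs (resM _ heqT.ge y)
    obtain ⟨σ, hσ⟩ := h m
    refine ⟨σ, (hres heqT).1 ?_⟩
    rw [← hm, hr]
    exact (FundLocal.pullSec_eq_of_sub_mem ι (hidl.symm ▸ hσ)).symm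

theorem separatesJets_tensor (x : X) (hx : IsClosed ({x} : Set X)) (F G : X.Modules) [Coh.IsQCoh F] [Coh.IsQCoh G]
    (i j : ℕ) (hi : W4c2seshadripos.SeparatesJets F x hx i) (hj : W4c2seshadripos.SeparatesJets G x hx j) :
    W4c2seshadripos.SeparatesJets (CohB1.tensorMod F G) x hx (i + j) := by
  obtain ⟨U, hU, hxU, -⟩ := Opens.isBasis_iff_nbhd.1 X.isBasis_affineOpens (show x ∈ (⊤ : X.Opens) from trivial)
  let V : X.affineOpens := ⟨U, hU⟩
  haveI : Coh.IsQCoh (CohB1.tensorMod F G) := isQCoh_tensorMod F G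
  rw [separatesJets_iff F x hx i V hxU] at hi
  rw [separatesJets_iff G x hx j V hxU] at hj
  rw [separatesJets_iff _ x hx (i + j) V hxU]
  intro m
  let φ : Γ(F, U) →ₗ[Γ(X, U)] Γ(G, U) →ₗ[Γ(X, U)] Γ(CohB1.tensorMod F G, U) :=
    LinearMap.mk₂ _ (fun a b => tmul a b) (fun a a' b => tmul_add_left a a' b) (fun r a b => tmul_smul_left r a b)
      (fun a b b' => tmul_add_right a b b') (fun r a b => tmul_smul_right r a b)
  let res : Γ(CohB1.tensorMod F G, (⊤ : X.Opens)) →+ Γ(CohB1.tensorMod F G, U) :=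
    AddMonoidHom.mk' (resM _ le_top) fun a b => map_add _ a b
  have hspan : Submodule.span Γ(X, U) {t | ∃ a b, φ a b = t} = ⊤ := Submodule.eq_top_iff'.2 fun t => by
    obtain ⟨w, rfl⟩ := (ExtFilt28.tmulEquiv F G V).surjective t
    induction w using TensorProduct.induction_on with
    | zero => rw [map_zero]; exact zero_mem _
    | add a b ha hb => rw [map_add]; exact add_mem ha hb
    | tmul a b => exact Submodule.subset_span ⟨a, b, rfl⟩
  have := mem_sup_of_bilinear ((W4c2seshadripos.pointIdeal x hx).ideal V) φ hspan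
    (A := Set.range (resM F (le_top : U ≤ ⊤))) (B := Set.range (resM G (le_top : U ≤ ⊤))) res.range
    (by rintro _ ⟨a, rfl⟩ _ ⟨b, rfl⟩; exact ⟨tmul a b, resM_tmul le_top a b⟩)
    (fun m => let ⟨σ, h⟩ := hi m; ⟨_, ⟨σ, rfl⟩, h⟩) (fun n => let ⟨σ, h⟩ := hj n; ⟨_, ⟨σ, rfl⟩, h⟩) m
  obtain ⟨_, ⟨σ, rfl⟩, z, hz, hsum⟩ := AddSubgroup.mem_sup.1 this
  refine ⟨σ, ?_⟩
  rw [← hsum]
  show res σ + z - res σ ∈ _
  rw [add_sub_cancel_left]
  exact hz

end Groth.Agent.Jets24
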